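import Cfsg.Agent.H911.UF.Four
import Cfsg.Agent.H887.D3.Fields5

/-!
# `PSU(N, q)`, `N ≥ 4`, in its own characteristic, self-dual (helper911)

* **`sd_psu`** : self-dual of degree at most `12`: `N = 4`, degree `6`, a quadratic form, `|F| = q`.
-/

set_option autoImplicit false

namespace Cfsg.Agent.H911.UF

open Cfsg Cfsg.Geo Cfsg.Agent.H915.LD
open scoped MatrixGroups

universe u

variable {F : Type u} [Field F] [Finite F] {ι : Type} [Fintype ι] [DecidableEq ι] {P : Subgroup (GL ι F)}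

/-- **Self-dual `PSU(N, q)`, `4 ≤ N`, `n ≤ 12`, in its own characteristic.** -/
theorem sd_psu (p : ℕ) [hp : Fact p.Prime] [CharP F p] (K : Type) [Field K] [Fintype K] [CharP K p] {N q : ℕ}
    (hN : 4 ≤ N) (hn : Fintype.card ι ≤ 12) (hK : Fintype.card K = q ^ 2) (hC : Core P) (hsd : SD P)
    (Φ : Soc P ≃* PSU N K q) : N = 4 ∧ Fintype.card ι = 6 ∧ FixQ P ∧ Nat.card F = q := by
  by_cases h6 : N = 4 ∧ Fintype.card ι = 6
  · obtain ⟨rfl, -⟩ := h6
    exact ⟨rfl, sd_psu4 p K hn hK hC hsd Φ⟩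
  · exact absurd hsd (H887.D3.psu_field p K hN hn hK hC Φ h6).2

end Cfsg.Agent.H911.UF
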