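import Cfsg.Agent.H911.UF.SetupF
import Cfsg.Agent.H876.D3.Main
import Cfsg.Agent.H130.U4.Final

/-!
# `PSU(4, q)` in its own characteristic, self-dual (helper911)

* **`sd_psu4`** : self-dual of degree at most `12`: degree `6`, a quadratic form, `|F| = q`.
-/

set_option autoImplicit false
set_option linter.unusedSectionVars false
set_option linter.style.haveILetI false

namespace Cfsg.Agent.H911.UF

open Cfsg Cfsg.Geo Matrix Cfsg.Agent.H876.D3
open LieClassical.HermBasic LieClassical.HermSiegel Cfsg.Agent.TitsThree.KSideU Cfsg.Agent.TitsThree.KSideUDesc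
  Cfsg.Agent.TitsThree.WBridge Cfsg.Agent.TitsThree.SiegelGen Cfsg.Agent.TitsThree.Siegel Cfsg.Agent.H61.SUCross
  Cfsg.Agent.TitsThree.WittFrame
open Cfsg.Agent.H915.LD Cfsg.Agent.H905.Md
open scoped MatrixGroups

universe u

section num

variable {p : ℕ} [hp : Fact p.Prime]

theorem coprime_succ {q f : ℕ} (hf : q = p ^ f) (hq : 2 ≤ q) (a : ℕ) : Nat.Coprime (q + 1) (p ^ a) := by
  refine Nat.Coprime.pow_right _ ?_
  rw [Nat.coprime_comm, hp.out.coprime_iff_not_dvd]
  intro h
  have hf0 : f ≠ 0 := by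
    rintro rfl
    rw [pow_zero] at hf
    omega
  have h1 : p ∣ q := by rw [hf]; exact dvd_pow_self p hf0
  have h2 : p ∣ 1 := (Nat.dvd_add_right h1).1 h
  exact hp.out.one_lt.ne' (Nat.dvd_one.1 h2)

theorem dvd_of_modEq {q t : ℕ} (hq : 2 ≤ q) (h : t * q ≡ t [MOD q ^ 2 - 1]) : q + 1 ∣ t := by
  have e1 : q ^ 2 - 1 = (q + 1) * (q - 1) := Nat.sq_sub_sq q 1
  have h1 := (Nat.modEq_iff_dvd' (Nat.le_mul_of_pos_right t (by omega))).1 h.symm
  have e2 : t * q - t = t * (q - 1) := by
    rw [Nat.mul_sub, mul_one]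
  rw [e1, e2] at h1
  exact Nat.dvd_of_mul_dvd_mul_right (by omega) h1

end num

variable {F : Type u} [Field F] [Finite F] {ι : Type} [Fintype ι] [DecidableEq ι] {P : Subgroup (GL ι F)}

theorem exists_pow (p : ℕ) [hp : Fact p.Prime] {K : Type} [Field K] [Fintype K] [CharP K p] {q : ℕ}
    (hK : Fintype.card K = q ^ 2) : ∃ f, q = p ^ f := H876.D3.exists_f hK p

/-- the traces of a self-dual group -/
theorem pow_q_of_sd (p : ℕ) [hp : Fact p.Prime] [CharP F p] (K : Type) [Field K] [Fintype K] [CharP K p]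
    {N q : ℕ} (hN : 4 ≤ N) (hK : Fintype.card K = q ^ 2) (hC : Core P) (Φ : Soc P ≃* PSU N K q) (hsd : SD P) (x : F) :
    x ^ q = x := by
  haveI := hC.nonempty
  obtain ⟨f, hf⟩ := H876.D3.exists_f hK p
  have hcj : Cj P (p ^ f) := by
    intro g hg
    have h2 := (psu_both p hC.absIrred hC.perfect (by omega) hK (by omega) Φ hg).2
    rw [← hf]
    exact h2.symm
  have h1 := hC.pow_eq p (Fr.of_sd_cj hsd hcj) x
  rwa [← hf] at h1

/-- **Self-dual `PSU(4, q)`, `n ≤ 12`, in its own characteristic.** -/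
theorem sd_psu4 (p : ℕ) [hp : Fact p.Prime] [CharP F p] (K : Type) [Field K] [Fintype K] [CharP K p] {q : ℕ}
    (hn : Fintype.card ι ≤ 12) (hK : Fintype.card K = q ^ 2) (hC : Core P) (hsd : SD P)
    (Φ : Soc P ≃* PSU 4 K q) : Fintype.card ι = 6 ∧ FixQ P ∧ Nat.card F = q := by
  haveI := hC.nonempty
  have : Fintype F := Fintype.ofFinite F
  obtain ⟨f, hf⟩ := H876.D3.exists_f hK p
  have hq2 := two_le_q hK
  obtain ⟨m, W, hm, hW, hev, hodd, k, _, _, _, j, J, θ, hB, ⟨i, hi⟩, hker, hQ⟩ := setupF p K le_rfl hK hC Φ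
  have hfin : Module.finrank k (ι → k) = Fintype.card ι := Module.finrank_fintype_fun_eq_card k
  have hxq := pow_q_of_sd p K le_rfl hK hC Φ hsd
  obtain ⟨hq1, -⟩ := hQ q hxq
  have hV0 : W.V0 = ⊥ := by
    by_contra h
    have := hodd h
    omega
  have hm2 : m = 2 := by have := hev hV0; omega
  have hlt : ∀ i, θ i < q ^ 2 := by
    intro i
    have h3 := hB.le i
    have h4 : 0 < q ^ 2 := pow_pos (by omega) _
    omega
  have hθi := hB.pos i hi
  -- one node
  have huniq : ∀ i', i' ≠ i → θ i' = 0 := by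
    by_contra hcon
    push Not at hcon
    obtain ⟨i', hne, hi'⟩ := hcon
    obtain ⟨vv, ff, h⟩ := hker m le_rfl (by omega) (fun i hi => absurd i.2 (by omega))
    rcases lt_or_gt_of_ne hne with h3 | h3
    · have := two_nodes p W h h3 hi' hθi (hlt _)
      omega
    · have := two_nodes p W h h3 hθi hi' (hlt _)
      omega
  -- not the first node
  have hi1 : (i : ℕ) = 1 := by
    by_contra hne
    have h0 : (i : ℕ) = 0 := by have := i.2; omega
    have hi0 : i = ⟨0, by omega⟩ := Fin.ext h0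
    have hd := dvd_of_modEq hq2 (hq1 i (by omega))
    have hθ : ∀ i' : Fin m, 1 ≤ (i' : ℕ) → θ i' = 0 := fun i' h1 => huniq i' (by
      rintro rfl
      omega)
    obtain ⟨vv, ff, h⟩ := hker 1 (by omega) one_pos hθ
    rcases node0_cases p hm W h hθ (hi0 ▸ hθi) (hlt _) hf with ⟨a, ha⟩ | h1 | ⟨hp2, a, ha⟩ | ⟨a, ha⟩
    · rw [hi0, ha] at hd
      have h2 := Nat.Coprime.eq_one_of_dvd (coprime_succ hf hq2 a) hd
      omega
    · omega
    · rw [hi0, ha] at hd
      have h2 := (coprime_succ hf hq2 a).dvd_of_dvd_mul_right hd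
      have := Nat.le_of_dvd (by norm_num) h2
      omega
    · have h2 := H887.D3.node0_adj (p := p) W hm h hf ha (fun i hi => hθ i (by omega))
      omega
  have hi1' : i = ⟨1, by omega⟩ := Fin.ext hi1
  have hθ : ∀ i' : Fin m, (i' : ℕ) ≠ 1 → θ i' = 0 := fun i' h1 => huniq i' (by
    rintro rfl
    exact h1 hi1)
  obtain ⟨vv, ff, h⟩ := hker 2 (by omega) two_pos (fun i' h2 => hθ i' (by omega))
  have hle : θ ⟨1, by omega⟩ ≤ q - 1 := hB.last hV0 _ (by simp; omega)
  have h6 : Fintype.card ι = 6 := by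
    rcases node1_four p hm W h hθ (hi1' ▸ hθi) hle with h1 | h1 <;> omega
  refine ⟨h6, H130.U4.u4_six hC hsd hK Φ h6, ?_⟩
  -- the exponent
  obtain ⟨a, ha⟩ : ∃ a, θ i = p ^ a := by
    have h1 := pair_bound p hm W h hθ (hi1' ▸ hθi)
    rw [red_eq (hi1' ▸ hθi) hle, ← hi1'] at h1
    have h2 : (Ib p (θ i)).card ≤ 2 := by
      by_contra h3
      push Not at h3
      have h4 : 3 * (Ib p (θ i)).card ≤ (Ib p (θ i)).card * (Ib p (θ i)).card := Nat.mul_le_mul_right _ h3
      omega
    rcases Ib_cases (p := p) hθi with h3 | h3 | h3 | h3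
    · exact h3
    all_goals omega
  -- the field
  have hle1 : Fintype.card F ≤ q := by
    obtain ⟨b, -, hb⟩ := FiniteField.card F p
    by_contra hlt'
    push Not at hlt'
    have h3 : (Polynomial.X ^ q - Polynomial.X : Polynomial F) ≠ 0 := FiniteField.X_pow_card_sub_X_ne_zero F (by omega)
    have h4 := Polynomial.card_roots' (Polynomial.X ^ q - Polynomial.X : Polynomial F)
    rw [FiniteField.X_pow_card_sub_X_natDegree_eq F (by omega)] at h4
    have h5 : (Finset.univ : Finset F).val ≤ (Polynomial.X ^ q - Polynomial.X : Polynomial F).roots := by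
      rw [Multiset.le_iff_subset Finset.univ.nodup]
      intro x _
      rw [Polynomial.mem_roots h3]
      simp [hxq x]
    have h6 := Multiset.card_le_card h5
    have h7 : (Finset.univ : Finset F).val.card = Fintype.card F := rfl
    omega
  have hle2 : q ≤ Fintype.card F := by
    obtain ⟨-, hQ1⟩ := hQ (Fintype.card F) (fun x => FiniteField.pow_card x)
    have h1 := hQ1 i (by omega)
    rw [ha] at h1
    have hF2 : 2 ≤ Fintype.card F := Fintype.one_lt_card
    have h2 := (Nat.modEq_iff_dvd' (Nat.le_mul_of_pos_right (p ^ a) (by omega))).1 h1.symm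
    have e2 : p ^ a * Fintype.card F - p ^ a = p ^ a * (Fintype.card F - 1) := by
      rw [Nat.mul_sub, mul_one]
    rw [e2] at h2
    have hcop : Nat.Coprime (q - 1) (p ^ a) := by
      refine Nat.Coprime.pow_right _ ?_
      rw [Nat.coprime_comm, hp.out.coprime_iff_not_dvd]
      intro h3
      have hf0 : f ≠ 0 := by
        rintro rfl
        rw [pow_zero] at hf
        omega
      have h4 : p ∣ q := by rw [hf]; exact dvd_pow_self p hf0
      have h5 : p ∣ q - (q - 1) := Nat.dvd_sub h4 h3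
      rw [Nat.sub_sub_self (by omega)] at h5
      exact hp.out.one_lt.ne' (Nat.dvd_one.1 h5)
    have h3 := Nat.le_of_dvd (by omega) (hcop.dvd_of_dvd_mul_left h2)
    omega
  rw [Nat.card_eq_fintype_card]
  omega

/-- `PSU(4, q)` in degree `6` -/
theorem psu4_six (p : ℕ) [hp : Fact p.Prime] [CharP F p] (K : Type) [Field K] [Fintype K] [CharP K p] {q : ℕ}
    (hn : Fintype.card ι = 6) (hK : Fintype.card K = q ^ 2) (hC : Core P)
    (Φ : Soc P ≃* PSU 4 K q) : SD P ∧ FixQ P ∧ Nat.card F = q := by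
  rcases core_psu_four p K (by omega) hK hC Φ with h | h | h
  · omega
  · exact ⟨h.2, (sd_psu4 p K (by omega) hK hC h.2 Φ).2⟩
  · omega

end Cfsg.Agent.H911.UF
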