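import Cfsg.Agent.H911.UF.Tor
import Cfsg.Agent.H911.AdF
import Cfsg.Agent.H151.D3.Setup

/-!
# `PSU(N, K)` in the defining characteristic: the exponents and the field (helper911)

* **`setupF`** : `H151.D3.setup` together with the congruences `θ Q ≡ θ` if `x ^ Q = x` on `F`.
-/

set_option autoImplicit false
set_option linter.unusedSectionVars false
set_option linter.style.haveILetI false

namespace Cfsg.Agent.H911.UF

open CoxeterSystem Cfsg.Agent.ChevalleyStructure.CoxeterGeom Cfsg.Agent.Tits.Roots Cfsg.Agent.Nodes.TypeC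
open Cfsg.Agent.Nodes.Comb Cfsg.Agent.Nodes.Reps Cfsg.Agent.Nodes.WittRoot Cfsg.Agent.Nodes.BNOf
open Cfsg.Agent.Nodes.WittRGD Cfsg.Agent.Nodes.RGDLib Cfsg.Agent.Nodes.WittAll Cfsg.Agent.Nodes
open Cfsg.Agent.TitsThree Cfsg.Agent.TitsThree.Siegel Cfsg.Agent.TitsThree.WittFrame
  Cfsg.Agent.TitsThree.WittWeyl Cfsg.Agent.TitsThree.FrameCN Cfsg.Agent.H905.Md
  Cfsg.Agent.Nodes.StabComb Cfsg.Agent.Tits.Core
open Cfsg Cfsg.Geo Cfsg.Agent.H876.D3 Cfsg.Agent.H911 Cfsg.Agent.H915.LD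
open LieClassical.HermBasic Cfsg.Agent.TitsThree.KSideU Cfsg.Agent.TitsThree.KSideUDesc Cfsg.Agent.Nodes.WittU
  Cfsg.Agent.TitsThree.WBridge Cfsg.Agent.TitsThree.SiegelGen Cfsg.Agent.H61.SUCross Cfsg.Agent.H61.SUNode
open Cfsg.Agent.KFacts.MulOdd.Inst (Lv)
open Cfsg.Agent.Omega.CR Cfsg.Agent.Omega.FOne.Lift.Sd Cfsg.Agent.Nodes.Bruhat Cfsg.Agent.Nodes.OppDec
open scoped MatrixGroups

universe u

variable {F : Type u} [Field F] [Finite F] {ι : Type} [Fintype ι] [DecidableEq ι] {P : Subgroup (GL ι F)}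

/-- the character of the torus has values in `F` -/
theorem cf_pow_of_field (p : ℕ) [Fact p.Prime] [CharP F p] {K : Type} [Field K] [Fintype K] [CharP K p] {N q : ℕ}
    (hN : 3 ≤ N) (hK : Fintype.card K = q ^ 2) (hP : ActsAbsolutelyIrreducibly (matrixSet P)) [Nonempty ι]
    {m : ℕ} (hm : 0 < m) {W : WFrame (PU hK N) m} (hW : Kind W) {φ : SU N K q →* GL ι F} (hφ : φ.range = P)
    {c : ι → AlgebraicClosure F} (hc0 : c ≠ 0)
    (hc : c ∈ fx (lin (acRep φ)) (RGD.Sup (WittModel.X (modelSU hK hN W))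
        (RGD.Pos (CoxeterMatrix.B m).toCoxeterSystem (isCartan m)))) {χ : SU N K q → AlgebraicClosure F}
    (hχ : ∀ t ∈ WittModel.T (modelSU hK hN W), lin (acRep φ) t c = χ t • c) {Q : ℕ} (hQ : ∀ x : F, x ^ Q = x)
    {t : SU N K q} (ht : t ∈ WittModel.T (modelSU hK hN W)) : χ t ^ Q = χ t := by
  have hchar : CharP (AlgebraicClosure F) p := charP_of_injective_algebraMap (algebraMap F _).injective p
  obtain ⟨p0, hp0, -⟩ := exists_adm hK W
  have hA : AmbT (toFrame W) p (modelSU hK hN W).I := AmbT.of_amb (amb_U hK W) p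
  haveI : Finite (CoxeterMatrix.B m).Group := finite_W (CoxeterMatrix.B m).toCoxeterSystem
  have R := rgdC_model (modelSU hK hN W) hA hp0 (CoxeterMatrix.B m).toCoxeterSystem
  have hG : GG (CoxeterMatrix.B m).toCoxeterSystem (isCartan m) (WittModel.T (modelSU hK hN W))
      (WittModel.X (modelSU hK hN W)) = ⊤ := gg_top (WittModel.G1_eq_top _ hm _)
  have hT := modelT_comm (M := modelSU hK hN W) hA (kd_su hW)
  have hirr := ac_irr R hG hT hφ hP
  obtain ⟨c1, hc1, hc10, χ1, hχ1⟩ := Ad.exists_chiF (p := p) R hG hT hφ hP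
  have hspan := fx_eq_span R (lin (acRep φ)) hirr hc hc0 hχ
  set ĉ : ι → AlgebraicClosure F := fun i => algebraMap F (AlgebraicClosure F) (c1 i) with hĉ
  have hinj := (algebraMap F (AlgebraicClosure F)).injective
  have hĉD : ĉ ∈ fx (lin (acRep φ)) (RGD.Sup (WittModel.X (modelSU hK hN W))
        (RGD.Pos (CoxeterMatrix.B m).toCoxeterSystem (isCartan m))) := by
    intro u hu
    rw [hĉ, Ad.ac_map, hc1 u hu]
  rw [hspan] at hĉD
  obtain ⟨a, ha⟩ := Submodule.mem_span_singleton.1 hĉD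
  have h1 : lin (acRep φ) t ĉ = χ t • ĉ := by
    rw [← ha, map_smul, hχ t ht, smul_comm]
  have h2 : lin (acRep φ) t ĉ = algebraMap F (AlgebraicClosure F) (χ1 t) • ĉ := by
    rw [hĉ, Ad.ac_map, hχ1 t ht]
    funext i
    simp only [Pi.smul_apply, smul_eq_mul, map_mul]
  have hĉ0 : ĉ ≠ 0 := by
    intro h0
    apply hc10
    funext i
    apply hinj
    rw [Pi.zero_apply, map_zero]
    exact congrFun h0 i
  have h3 : χ t = algebraMap F (AlgebraicClosure F) (χ1 t) := by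
    have h4 : (χ t - algebraMap F (AlgebraicClosure F) (χ1 t)) • ĉ = 0 := by
      rw [sub_smul, ← h1, h2, sub_self]
    rcases smul_eq_zero.1 h4 with h5 | h5
    · exact sub_eq_zero.1 h5
    · exact absurd h5 hĉ0
  rw [h3, ← map_pow, hQ]

theorem cf_tor {K : Type} [Field K] [Fintype K] {N q m : ℕ} {hK : Fintype.card K = q ^ 2} {W : WFrame (PU hK N) m}
    {k : Type*} [Field k] (j : K →+* k) (θ : Fin m → ℕ) {t : SU N K q} {i : Fin m} {c : K}
    (ht : ∀ k, dl W k t = if k = i then c else 1) : cf W j θ t = j c ^ θ i := by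
  unfold cf
  rw [Finset.prod_eq_single i]
  · rw [ht, if_pos rfl]
  · intro a _ ha
    rw [ht, if_neg ha, map_one, one_pow]
  · intro h; exact absurd (Finset.mem_univ _) h

/-- **the congruences** -/
theorem modEq_of_pow {K : Type} [Field K] [Fintype K] {q : ℕ} (hK : Fintype.card K = q ^ 2) {a b : ℕ} :
    ((∀ c : K, c ≠ 0 → c ^ a = c ^ b) → a ≡ b [MOD q ^ 2 - 1]) ∧
      ((∀ c : K, c ≠ 0 → c ^ q = c → c ^ a = c ^ b) → a ≡ b [MOD q - 1]) := by
  have hq : 2 ≤ q := two_le_q hK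
  obtain ⟨g, hg⟩ := IsCyclic.exists_generator (α := Kˣ)
  have hord : orderOf g = q ^ 2 - 1 := by
    rw [orderOf_eq_card_of_forall_mem_zpowers hg, Nat.card_units, Nat.card_eq_fintype_card, hK]
  constructor
  · intro h
    rw [← hord]
    apply pow_eq_pow_iff_modEq.1
    apply Units.ext
    push_cast
    exact h _ (Units.ne_zero g)
  · intro h
    have e1 : q ^ 2 - 1 = (q + 1) * (q - 1) := Nat.sq_sub_sq q 1
    have hord2 : orderOf (g ^ (q + 1)) = q - 1 := by
      rw [orderOf_pow_of_dvd (by omega) (by rw [hord, e1]; exact Dvd.intro _ rfl), hord, e1,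
        Nat.mul_div_cancel_left _ (by omega)]
    rw [← hord2]
    apply pow_eq_pow_iff_modEq.1
    apply Units.ext
    have h2 := h ((g ^ (q + 1) : Kˣ) : K) (Units.ne_zero _) (by
      have h3 : (g ^ (q + 1)) ^ (q - 1) = 1 := by rw [← hord2, pow_orderOf_eq_one]
      have h4 := congrArg Units.val h3
      push_cast at h4 ⊢
      calc ((g : K) ^ (q + 1)) ^ q = ((g : K) ^ (q + 1)) ^ (q - 1) * (g : K) ^ (q + 1) := by
            rw [← pow_succ, Nat.sub_add_cancel (by omega)]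
        _ = _ := by rw [h4, one_mul])
    push_cast at h2 ⊢
    exact h2

/-- **The kernel of `P`, with the field.** -/
theorem setupF (p : ℕ) [Fact p.Prime] [CharP F p] (K : Type) [Field K] [Fintype K] [CharP K p]
    {N q : ℕ} (hN : 4 ≤ N) (hK : Fintype.card K = q ^ 2) (hC : Core P) (Φ : Soc P ≃* PSU N K q) :
    ∃ (m : ℕ) (W : WFrame (PU hK N) m), 2 ≤ m ∧ Kind W ∧ (W.V0 = ⊥ → N = 2 * m) ∧
      (W.V0 ≠ ⊥ → N = 2 * m + 1) ∧ ∃ (k : Type u) (_ : Field k) (_ : IsAlgClosed k) (_ : CharP k p)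
      (j : K →+* k) (J : Set (Fin m)) (θ : Fin m → ℕ), Bd W J θ ∧ (∃ i, i ∉ J) ∧
      (∀ r, r ≤ m → 0 < r → (∀ i : Fin m, r ≤ (i : ℕ) → θ i = 0) →
        ∃ (vv : (Fin m → Fin N → K) → (ι → k)) (ff : (Fin m → Fin N → K) → Module.Dual k (ι → k)),
          IsKer q r j θ vv ff) ∧
      (∀ Q : ℕ, (∀ x : F, x ^ Q = x) → (∀ i : Fin m, (i : ℕ) + 1 < m → θ i * Q ≡ θ i [MOD q ^ 2 - 1]) ∧
        (∀ i : Fin m, ¬ (i : ℕ) + 1 < m → θ i * Q ≡ θ i [MOD q - 1])) := by
  classical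
  have hN3 : 3 ≤ N := by omega
  haveI := hC.nonempty
  obtain ⟨m, W, hm, hW, hev, hodd⟩ := H151.D3.exists_kind' hK hN
  obtain ⟨φ, hφ, -, -⟩ := psu_cover p hC.perfect hN3 hK (by omega) Φ
  haveI hchar : CharP (AlgebraicClosure F) p := charP_of_injective_algebraMap (algebraMap F _).injective p
  obtain ⟨j⟩ := H151.D3.exists_emb p K (AlgebraicClosure F)
  have hm0 : 0 < m := by omega
  obtain ⟨p0, hp0, -⟩ := exists_adm hK W
  have hA : AmbT (toFrame W) p (modelSU hK hN3 W).I := AmbT.of_amb (amb_U hK W) p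
  haveI : Finite (CoxeterMatrix.B m).Group := finite_W (CoxeterMatrix.B m).toCoxeterSystem
  have R := rgdC_model (modelSU hK hN3 W) hA hp0 (CoxeterMatrix.B m).toCoxeterSystem
  have hG : GG (CoxeterMatrix.B m).toCoxeterSystem (isCartan m) (WittModel.T (modelSU hK hN3 W))
      (WittModel.X (modelSU hK hN3 W)) = ⊤ := gg_top (WittModel.G1_eq_top _ hm0 _)
  have hT := modelT_comm (M := modelSU hK hN3 W) hA (kd_su hW)
  have hirr := ac_irr R hG hT hφ hC.absIrred
  have hirr' : ∀ L : Submodule (AlgebraicClosure F) (ι → AlgebraicClosure F), Ivt (lin (acRep φ)) ⊤ L →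
      L = ⊥ ∨ L = ⊤ := by
    intro L hL
    exact hirr L (by rw [hG]; exact hL)
  obtain ⟨J, θ, hB, hJ, v, ψ, hv0, hv, hvT, hψ⟩ := exists_coef hN3 p hW hm0 j (lin (acRep φ)) hirr'
  refine ⟨m, W, hm, hW, hev, hodd, AlgebraicClosure F, inferInstance, inferInstance, hchar, j, J, θ, hB, ?_, ?_, ?_⟩
  · apply hJ
    rw [Module.finrank_fintype_fun_eq_card]
    have := hC.two_le
    omega
  · intro r hr hr0 hθ
    exact isKer_of_coef hirr' hv0 hψ hr hr0 hθ
  · intro Q hQ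
    have key : ∀ {t : SU N K q}, t ∈ WittModel.T (modelSU hK hN3 W) → cf W j θ t ^ Q = cf W j θ t := fun ht =>
      cf_pow_of_field p hN3 hK hC.absIrred hm0 hW hφ hv0 hv hvT hQ ht
    have key2 : ∀ {i : Fin m} {c : K}, (∃ t ∈ WittModel.T (modelSU hK hN3 W), ∀ k, dl W k t = if k = i then c else 1) →
        c ^ (θ i * Q) = c ^ θ i := by
      rintro i c ⟨t, ht, h1⟩
      have h2 := key ht
      rw [cf_tor j θ h1, ← pow_mul, ← map_pow, ← map_pow] at h2
      exact j.injective h2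
    exact ⟨fun i hi => (modEq_of_pow hK).1 fun c hc => key2 (exists_tor hN3 W hi hc),
      fun i hi => (modEq_of_pow hK).2 fun c hc hcq => key2 (exists_tor_last hN3 W hi hc hcq)⟩

end Cfsg.Agent.H911.UF
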