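import Cfsg.Agent.H876.D3.Kern

/-!
# Elements of the torus of `SU_N(q)` (helper911)

* `exists_tor` : `dl W k t = c` if `k = i` and `1` otherwise, `i` not the last node;
* `exists_tor_last` : the same for the last node, `c ^ q = c`.
-/

set_option autoImplicit false
set_option linter.unusedSectionVars false

namespace Cfsg.Agent.H911.UF

open Cfsg Cfsg.Geo Matrix
open LieClassical.HermBasic LieClassical.HermSiegel Cfsg.Agent.TitsThree.KSideU Cfsg.Agent.TitsThree.KSideUDesc
  Cfsg.Agent.TitsThree.WBridge Cfsg.Agent.TitsThree.SiegelGen Cfsg.Agent.TitsThree.Siegel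
  Cfsg.Agent.TitsThree Cfsg.Agent.TitsThree.WittFrame Cfsg.Agent.H61.SUCross Cfsg.Agent.H876.D3
  Cfsg.Agent.Nodes.BNOf Cfsg.Agent.Nodes.TypeC Cfsg.Agent.Nodes.WittAll Cfsg.Agent.Nodes.WittRGD
  Cfsg.Agent.Nodes.WittRoot Cfsg.Agent.Nodes
open Cfsg.Agent.ClassicalGeometry.UnitTransv (rankOne rankOne_mulVec det_rankOne)

variable {K : Type} [Field K] [Fintype K] {N q m : ℕ} (hK : Fintype.card K = q ^ 2)

section

/-- `e ↦ c e`, `f ↦ c^(-q) f` -/
noncomputable def sc (q : ℕ) (e f : Fin N → K) (c : K) : Matrix (Fin N) (Fin N) K :=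
  rankOne q ((c - 1) • e) f * rankOne q (((c ^ q)⁻¹ - 1) • f) e

theorem sc_mulVec {e f : Fin N → K} (hf : hermForm N K q f f = 0) (c : K) (x : Fin N → K) :
    sc q e f c *ᵥ x = x + (hermForm N K q x e * ((c ^ q)⁻¹ - 1)) • f + (hermForm N K q x f * (c - 1)) • e := by
  rw [sc, ← Matrix.mulVec_mulVec, rankOne_mulVec, rankOne_mulVec, herm_add_left, herm_smul_left, herm_smul_left,
    hf, mul_zero, mul_zero, add_zero, smul_smul, smul_smul]

include hK in
theorem sc_isom {e f : Fin N → K} (he : hermForm N K q e e = 0) (hf : hermForm N K q f f = 0)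
    (hef : hermForm N K q e f = 1) {c : K} (hc0 : c ≠ 0) (x y : Fin N → K) :
    hermForm N K q (sc q e f c *ᵥ x) (sc q e f c *ᵥ y) = hermForm N K q x y := by
  have hfe : hermForm N K q f e = 1 := by
    rw [herm_swap hK e f, hef, one_pow]
  have hcq : c ^ q ≠ 0 := pow_ne_zero _ hc0
  rw [sc_mulVec hf, sc_mulVec hf]
  simp only [herm_add_left, herm_add_right hK, herm_smul_left, herm_smul_right, he, hf, hef, hfe]
  have e1 : hermForm N K q f y = hermForm N K q y f ^ q := herm_swap hK y f
  have e2 : hermForm N K q e y = hermForm N K q y e ^ q := herm_swap hK y e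
  rw [e1, e2, mul_pow, mul_pow, sub_pow_q hK, sub_pow_q hK, one_pow, inv_pow, pow_q_pow_q hK]
  field_simp
  ring

theorem det_sc {e f : Fin N → K} (hef : hermForm N K q e f = 1) (hfe : hermForm N K q f e = 1) (c : K) :
    (sc q e f c).det = c * (c ^ q)⁻¹ := by
  rw [sc, Matrix.det_mul, det_rankOne, det_rankOne, herm_smul_left, herm_smul_left, hef, hfe]
  ring

end

variable {hK} (hN : 3 ≤ N) (W : WFrame (PU hK N) m)

theorem sc_b (i : Fin m) (c : K) (a : Fin m) (s : Bool) :
    sc q (W.e i) (W.f i) c *ᵥ ((toFrame W).b (a, s)) =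
      (if a = i then (if s then c else (c ^ q)⁻¹) else 1) • (toFrame W).b (a, s) := by
  rw [sc_mulVec (by have := hb_iso W false i i; exact this)]
  have he : W.e i = (toFrame W).b (i, true) := rfl
  have hf : W.f i = (toFrame W).b (i, false) := rfl
  rw [he, hf]
  cases s
  · rw [hb_iso]
    have h1 := hb_pair W false a i
    rw [Bool.not_false] at h1
    rw [h1]
    by_cases h : a = i
    · subst h
      rw [if_pos rfl, if_pos rfl]
      simp only [zero_mul, zero_smul, add_zero, one_mul, Bool.false_eq_true, if_false]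
      module
    · rw [if_neg h, if_neg h, zero_mul, zero_mul, zero_smul, zero_smul, add_zero, add_zero, one_smul]
  · rw [hb_iso]
    have h1 := hb_pair W true a i
    rw [Bool.not_true] at h1
    rw [h1]
    by_cases h : a = i
    · subst h
      rw [if_pos rfl, if_pos rfl]
      simp only [zero_mul, zero_smul, add_zero, one_mul, if_true]
      module
    · rw [if_neg h, if_neg h, zero_mul, zero_mul, zero_smul, zero_smul, add_zero, add_zero, one_smul]

theorem herm_ee (i : Fin m) : hermForm N K q (W.e i) (W.e i) = 0 := hb_iso W true i i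

theorem herm_ff (i : Fin m) : hermForm N K q (W.f i) (W.f i) = 0 := hb_iso W false i i

theorem herm_ef (i : Fin m) : hermForm N K q (W.e i) (W.f i) = 1 := by
  have := hb_pair W true i i
  rw [if_pos rfl] at this
  exact this

theorem herm_fe (i : Fin m) : hermForm N K q (W.f i) (W.e i) = 1 := by
  have := hb_pair W false i i
  rw [if_pos rfl] at this
  exact this

/-- diagonal elements are in the torus -/
theorem tor_of_diag {t : SU N K q} {l : Fin m → Bool → K} (hl : ∀ a s, l a s ≠ 0)
    (ht : ∀ a s, act t ((toFrame W).b (a, s)) = l a s • (toFrame W).b (a, s)) :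
    t ∈ WittModel.T (modelSU hK hN W) ∧ ∀ k, dl W k t = ∏ a : {a : Fin m // a ≤ k}, l a.1 true := by
  constructor
  · rw [T_eq, Subgroup.mem_comap, mem_Tor]
    exact ⟨⟨t, rfl⟩, fun x => ⟨l x.1 x.2, hl _ _, ht x.1 x.2⟩⟩
  · intro k
    have h1 := Dl_mul_diag (Fr := toFrame W) (s := true) (i := k) (t := toLin K q N t) (l := fun a => l a true)
      (fun a _ => ht a true) 1
    rw [one_mul, Dl_one, mul_one] at h1
    exact h1

/-- **the first nodes** -/
theorem exists_tor {i : Fin m} (hi : (i : ℕ) + 1 < m) {c : K} (hc : c ≠ 0) :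
    ∃ t ∈ WittModel.T (modelSU hK hN W), ∀ k, dl W k t = if k = i then c else 1 := by
  set i' : Fin m := ⟨i + 1, hi⟩ with hi'
  have hii : i ≠ i' := fun h => by
    have := congrArg Fin.val h
    rw [hi'] at this
    simp only at this
    omega
  have hc' : c⁻¹ ≠ 0 := inv_ne_zero hc
  have hdet : (sc q (W.e i) (W.f i) c * sc q (W.e i') (W.f i') c⁻¹).det = 1 := by
    rw [Matrix.det_mul, det_sc (herm_ef W i) (herm_fe W i), det_sc (herm_ef W i') (herm_fe W i'), inv_pow, inv_inv]
    have : c ^ q ≠ 0 := pow_ne_zero _ hc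
    field_simp
  have hiso : ∀ x y, hermForm N K q ((sc q (W.e i) (W.f i) c * sc q (W.e i') (W.f i') c⁻¹) *ᵥ x)
      ((sc q (W.e i) (W.f i) c * sc q (W.e i') (W.f i') c⁻¹) *ᵥ y) = hermForm N K q x y := by
    intro x y
    rw [← Matrix.mulVec_mulVec, ← Matrix.mulVec_mulVec,
      sc_isom hK (herm_ee W i) (herm_ff W i) (herm_ef W i) hc,
      sc_isom hK (herm_ee W i') (herm_ff W i') (herm_ef W i') hc']
  obtain ⟨h1, h2⟩ := tor_of_diag hN W (t := mkSU _ hdet hiso)
    (l := fun a s => (if a = i' then (if s then c⁻¹ else (c⁻¹ ^ q)⁻¹) else 1) *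
      (if a = i then (if s then c else (c ^ q)⁻¹) else 1)) (fun a s => by
        have h3 : c ^ q ≠ 0 := pow_ne_zero _ hc
        have h4 : c⁻¹ ^ q ≠ 0 := pow_ne_zero _ hc'
        refine mul_ne_zero ?_ ?_ <;> split_ifs <;>
          first
            | exact one_ne_zero
            | exact hc
            | exact hc'
            | exact inv_ne_zero h3
            | exact inv_ne_zero h4) (fun a s => by
        rw [act_def, mat_mkSU, ← Matrix.mulVec_mulVec, sc_b, Matrix.mulVec_smul, sc_b, smul_smul])
  refine ⟨_, h1, fun k => ?_⟩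
  rw [h2]
  simp only [if_true]
  rw [Finset.prod_mul_distrib]
  have key : ∀ (j : Fin m) (d : K), (∏ a : {a : Fin m // a ≤ k}, if a.1 = j then d else 1) = if j ≤ k then d else 1 := by
    intro j d
    by_cases hj : j ≤ k
    · rw [if_pos hj, Finset.prod_eq_single ⟨j, hj⟩]
      · rw [if_pos rfl]
      · rintro ⟨a, ha⟩ _ h1
        rw [if_neg]
        intro h2
        exact h1 (Subtype.ext h2)
      · intro h1; exact absurd (Finset.mem_univ _) h1
    · rw [if_neg hj]
      refine Finset.prod_eq_one fun a _ => ?_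
      rw [if_neg]
      intro h
      exact hj (h ▸ a.2)
  rw [key, key]
  by_cases h3 : k = i
  · subst h3
    rw [if_pos rfl, if_pos le_rfl, if_neg, one_mul]
    rw [Fin.le_def, hi']
    simp
  · rw [if_neg h3]
    by_cases h4 : i' ≤ k
    · have h5 : i ≤ k := by
        rw [Fin.le_def] at h4 ⊢
        rw [hi'] at h4
        simp only at h4
        omega
      rw [if_pos h4, if_pos h5, inv_mul_cancel₀ hc]
    · have h5 : ¬ i ≤ k := by
        rw [Fin.le_def] at h4 ⊢
        rw [hi'] at h4
        simp only at h4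
        intro h6
        apply h3
        apply Fin.ext
        omega
      rw [if_neg h4, if_neg h5, one_mul]

/-- **the last node** -/
theorem exists_tor_last {i : Fin m} (hi : ¬ (i : ℕ) + 1 < m) {c : K} (hc : c ≠ 0) (hcq : c ^ q = c) :
    ∃ t ∈ WittModel.T (modelSU hK hN W), ∀ k, dl W k t = if k = i then c else 1 := by
  have hdet : (sc q (W.e i) (W.f i) c).det = 1 := by
    rw [det_sc (herm_ef W i) (herm_fe W i), hcq, mul_inv_cancel₀ hc]
  have hiso : ∀ x y, hermForm N K q (sc q (W.e i) (W.f i) c *ᵥ x) (sc q (W.e i) (W.f i) c *ᵥ y) = hermForm N K q x y :=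
    fun x y => sc_isom hK (herm_ee W i) (herm_ff W i) (herm_ef W i) hc x y
  obtain ⟨h1, h2⟩ := tor_of_diag hN W (t := mkSU _ hdet hiso)
    (l := fun a s => if a = i then (if s then c else (c ^ q)⁻¹) else 1) (fun a s => by
        have h3 : c ^ q ≠ 0 := pow_ne_zero _ hc
        split_ifs <;>
          first
            | exact one_ne_zero
            | exact hc
            | exact inv_ne_zero h3) (fun a s => by
        rw [act_def, mat_mkSU, sc_b])
  refine ⟨_, h1, fun k => ?_⟩
  rw [h2]
  simp only [if_true]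
  by_cases h3 : k = i
  · subst h3
    rw [if_pos rfl, Finset.prod_eq_single ⟨k, le_rfl⟩]
    · rw [if_pos rfl]
    · rintro ⟨a, ha⟩ _ h1
      rw [if_neg]
      intro h2
      exact h1 (Subtype.ext h2)
    · intro h1; exact absurd (Finset.mem_univ _) h1
  · rw [if_neg h3]
    refine Finset.prod_eq_one fun a _ => ?_
    rw [if_neg]
    intro h4
    apply h3
    have h5 := a.2
    rw [h4, Fin.le_def] at h5
    have h6 := k.2
    apply Fin.ext
    omega

end Cfsg.Agent.H911.UF
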